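import Groth.Agent.RefNoether.Basic
import Mathlib.RingTheory.IntegralClosure.GoingDown

/-!
Noether normalization adapted to finitely many primes; polynomial rings and coordinate subspaces.
-/

set_option autoImplicit false

universe u

namespace Groth.Agent.ChainNormLib

open MvPolynomial Groth.Agent.RefNoether

variable {k : Type u} [Field k] {d : ℕ}

theorem trdeg_eq_of_isIntegral {A B : Type u} [CommRing A] [IsDomain A] [CommRing B] [IsDomain B] [Algebra k A] [Algebra k B]
    (f : A →ₐ[k] B) (hinj : Function.Injective f) (hint : f.toRingHom.IsIntegral) :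
    Algebra.trdeg k A = Algebra.trdeg k B := by
  letI := f.toRingHom.toAlgebra
  haveI : IsScalarTower k A B := IsScalarTower.of_algebraMap_eq fun c => (f.commutes c).symm
  haveI : FaithfulSMul A B := (faithfulSMul_iff_algebraMap_injective _ _).2 hinj
  haveI : Algebra.IsIntegral A B := ⟨hint⟩
  rw [← trdeg_add_eq k A (A := B), trdeg_eq_zero (R := A) (A := B), add_zero]

/-- An integral endomorphism of a polynomial ring is injective. -/
theorem injective_of_isIntegral {n : ℕ} (φ : MvPolynomial (Fin n) k →ₐ[k] MvPolynomial (Fin n) k)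
    (hφ : φ.toRingHom.IsIntegral) : Function.Injective φ := by
  rw [injective_iff_map_eq_zero]
  intro g hg
  by_contra hg0
  let p := RingHom.ker φ
  haveI : p.IsPrime := RingHom.ker_isPrime φ
  have hn : Algebra.trdeg k (MvPolynomial (Fin n) k) = n := by
    rw [trdeg_of_isDomain]; simp
  have hint : (Ideal.kerLiftAlg φ).toRingHom.IsIntegral := by
    refine RingHom.IsIntegral.tower_top (Ideal.Quotient.mk p) _ ?_
    rw [show (Ideal.kerLiftAlg φ).toRingHom.comp (Ideal.Quotient.mk p) = φ.toRingHom from RingHom.ext fun x => rfl]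
    exact hφ
  have htr := trdeg_eq_of_isIntegral (Ideal.kerLiftAlg φ) (Ideal.kerLiftAlg_injective φ) hint
  have h1 := DimFormulaLib.ringKrullDim_eq_trdeg k n (D := MvPolynomial (Fin n) k ⧸ p) (htr.trans hn)
  have h2 := DimFormulaLib.ringKrullDim_eq_trdeg k n (D := MvPolynomial (Fin n) k) hn
  have h3 := ringKrullDim_quotient_succ_le_of_nonZeroDivisor (mem_nonZeroDivisors_of_ne_zero hg0)
  have h4 : ringKrullDim (MvPolynomial (Fin n) k ⧸ p) ≤ ringKrullDim (MvPolynomial (Fin n) k ⧸ Ideal.span {g}) :=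
    ringKrullDim_le_of_surjective (Ideal.Quotient.factor ((Ideal.span_singleton_le_iff_mem _).2 hg))
      (Ideal.Quotient.factor_surjective _)
  rw [h1] at h4
  rw [h2] at h3
  have h5 := (add_le_add h4 le_rfl).trans h3
  norm_cast at h5
  omega

/-- Noether normalization adapted to a chain of primes. -/
theorem exists_normalization : ∀ (n : ℕ) {ι : Type} [Finite ι] (rs : ι → ℕ)
    (qs : ι → Ideal (MvPolynomial (Fin n) k)), (∀ i, (qs i).IsPrime) →
    (∀ i, Algebra.trdeg k (MvPolynomial (Fin n) k ⧸ qs i) = rs i) →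
    ∃ φ : MvPolynomial (Fin n) k →ₐ[k] MvPolynomial (Fin n) k, φ.toRingHom.IsIntegral ∧
      ∀ j, (qs j).comap φ = Ideal.span (Set.range fun i : {i : Fin n // rs j ≤ (i : ℕ)} => X (i : Fin n)) := by
  intro n
  induction n with
  | zero =>
    intro ι _ rs qs hp _
    refine ⟨AlgHom.id k _, RingHom.isIntegral_of_surjective _ Function.surjective_id, fun j => ?_⟩
    haveI : IsEmpty {i : Fin 0 // rs j ≤ (i : ℕ)} := ⟨fun i => i.1.elim0⟩
    rw [Set.range_eq_empty, Ideal.span_empty]
    refine (Submodule.eq_bot_iff _).2 fun x hx => ?_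
    by_contra hx0
    have hxC := eq_C_of_isEmpty x
    refine (hp j).ne_top (Ideal.eq_top_of_isUnit_mem _ (show x ∈ qs j from hx) ?_)
    rw [hxC]
    exact (isUnit_iff_ne_zero.2 fun h => hx0 (by rw [hxC, h, map_zero])).map C
  | succ d ih =>
    intro ι _ rs qs hp hr
    classical
    haveI := Fintype.ofFinite ι
    have hbot : ∀ j, qs j = ⊥ → Ideal.span (Set.range fun i : {i : Fin (d + 1) // rs j ≤ (i : ℕ)} => X (R := k) (i : Fin (d + 1))) = ⊥ := by
      intro j hq
      have : rs j = d + 1 := by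
        have h1 := hr j
        rw [hq, (AlgEquiv.quotientBot k (MvPolynomial (Fin (d + 1)) k)).trdeg_eq, trdeg_of_isDomain] at h1
        simp at h1
        exact_mod_cast h1.symm
      haveI : IsEmpty {i : Fin (d + 1) // rs j ≤ (i : ℕ)} := ⟨fun i => by have := i.1.2; have := i.2; omega⟩
      rw [Set.range_eq_empty, Ideal.span_empty]
    by_cases hall : ∀ j, qs j = ⊥
    · refine ⟨AlgHom.id k _, RingHom.isIntegral_of_surjective _ Function.surjective_id, fun j => ?_⟩
      rw [hbot j (hall j), hall j]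
      exact Ideal.comap_id _
    have hex : ∀ j : {j // qs j ≠ ⊥}, ∃ g, g ∈ qs j.1 ∧ g ≠ 0 := fun j =>
      Submodule.exists_mem_ne_zero_of_ne_bot j.2
    choose g hg hg0 using hex
    obtain ⟨f, hf0, hfq, hfu⟩ : ∃ f : MvPolynomial (Fin (d + 1)) k, f ≠ 0 ∧ (∀ j, qs j ≠ ⊥ → f ∈ qs j) ∧ ¬ IsUnit f := by
      refine ⟨∏ j, g j, Finset.prod_ne_zero_iff.2 fun j _ => hg0 j, fun j hj => ?_, fun hu => ?_⟩
      · exact Ideal.mem_of_dvd _ (Finset.dvd_prod_of_mem g (Finset.mem_univ ⟨j, hj⟩)) (hg ⟨j, hj⟩)
      · push Not at hall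
        obtain ⟨j, hj⟩ := hall
        exact (hp j).ne_top (Ideal.eq_top_of_isUnit_mem _
          (Ideal.mem_of_dvd _ (Finset.dvd_prod_of_mem g (Finset.mem_univ ⟨j, hj⟩)) (hg ⟨j, hj⟩)) hu)
    obtain ⟨Z, hψ⟩ := exists_step f hf0 hfu
    set ψ := aeval (R := k) (Fin.snoc Z f : Fin (d + 1) → MvPolynomial (Fin (d + 1)) k)
    let α : MvPolynomial (Fin d) k →ₐ[k] MvPolynomial (Fin (d + 1)) k := aeval Z
    -- reduce modulo the last variable
    let red : MvPolynomial (Fin (d + 1)) k →ₐ[k] MvPolynomial (Fin d) k :=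
      aeval (Fin.snoc (fun i => X i) 0 : Fin (d + 1) → MvPolynomial (Fin d) k)
    have hred : ∀ g, g - rename Fin.castSucc (red g) ∈ Ideal.span {X (Fin.last d)} := by
      intro g
      rw [← Ideal.Quotient.eq]
      have : (Ideal.Quotient.mkₐ k (Ideal.span {X (R := k) (Fin.last d)})).comp (AlgHom.id k _) =
          (Ideal.Quotient.mkₐ k _).comp ((rename Fin.castSucc).comp red) := by
        refine MvPolynomial.algHom_ext fun i => ?_
        cases i using Fin.lastCases with
        | last => simp [red]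
        | cast i => simp [red]
      exact AlgHom.congr_fun this g
    let qs' : {j // qs j ≠ ⊥} → Ideal (MvPolynomial (Fin d) k) := fun j => (qs j.1).comap α.toRingHom
    have hstep : ∀ j : {j // qs j ≠ ⊥}, (∀ g, Ideal.Quotient.mk (qs j.1) (ψ g) = Ideal.Quotient.mk (qs j.1) (α (red g))) ∧
        Algebra.trdeg k (MvPolynomial (Fin d) k ⧸ qs' j) = rs j.1 ∧ rs j.1 ≤ d := by
      intro ⟨j, hj⟩
      haveI := hp j
      let q := qs j
      let r := rs j
      let q' := q.comap α.toRingHom
      haveI : q'.IsPrime := Ideal.IsPrime.comap _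
      have hr := hr j
      have hfq := hfq j hj
      have hψr : ∀ g, Ideal.Quotient.mk q (ψ g) = Ideal.Quotient.mk q (α (red g)) := by
        intro g
        have : (Ideal.Quotient.mkₐ k q).comp ψ = (Ideal.Quotient.mkₐ k q).comp (α.comp red) := by
          refine MvPolynomial.algHom_ext fun i => ?_
          cases i using Fin.lastCases with
          | last => simpa [ψ, red, α] using Ideal.Quotient.eq_zero_iff_mem.2 hfq
          | cast i => simp [ψ, red, α]
        exact AlgHom.congr_fun this g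
      -- the quotient map
      let β : (MvPolynomial (Fin d) k ⧸ q') →ₐ[k] (MvPolynomial (Fin (d + 1)) k ⧸ q) :=
        Ideal.quotientMapₐ q α le_rfl
      have hβinj : Function.Injective β := Ideal.quotientMap_injective' (f := α.toRingHom) (H := le_rfl) le_rfl
      have hβint : β.toRingHom.IsIntegral := by
        have h1 : ((Ideal.Quotient.mk q).comp ψ.toRingHom).IsIntegral :=
          hψ.trans _ _ (RingHom.isIntegral_of_surjective _ Ideal.Quotient.mk_surjective)
        have h2 : (Ideal.Quotient.mk q).comp ψ.toRingHom =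
            β.toRingHom.comp ((Ideal.Quotient.mk q').comp red.toRingHom) := RingHom.ext fun g => hψr g
        rw [h2] at h1
        exact RingHom.IsIntegral.tower_top _ _ h1
      have hr' : Algebra.trdeg k (MvPolynomial (Fin d) k ⧸ q') = r := by
        letI := β.toRingHom.toAlgebra
        haveI : IsScalarTower k (MvPolynomial (Fin d) k ⧸ q') (MvPolynomial (Fin (d + 1)) k ⧸ q) :=
          IsScalarTower.of_algebraMap_eq fun c => (β.commutes c).symm
        haveI : FaithfulSMul (MvPolynomial (Fin d) k ⧸ q') (MvPolynomial (Fin (d + 1)) k ⧸ q) :=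
          (faithfulSMul_iff_algebraMap_injective _ _).2 hβinj
        haveI : Algebra.IsIntegral (MvPolynomial (Fin d) k ⧸ q') (MvPolynomial (Fin (d + 1)) k ⧸ q) := ⟨hβint⟩
        rw [← trdeg_add_eq k (MvPolynomial (Fin d) k ⧸ q') (A := MvPolynomial (Fin (d + 1)) k ⧸ q),
          trdeg_eq_zero (R := MvPolynomial (Fin d) k ⧸ q'), add_zero] at hr
        exact hr
      have hrd : r ≤ d := by
        have := trdeg_le_of_surjective (Ideal.Quotient.mkₐ k q') (Ideal.Quotient.mkₐ_surjective k q')
        rw [hr', trdeg_of_isDomain] at this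
        simpa using this
      exact ⟨hψr, hr', hrd⟩
    obtain ⟨φ', hφ', hφq⟩ := ih (fun j : {j // qs j ≠ ⊥} => rs j.1) qs'
      (fun j => by haveI := hp j.1; exact Ideal.IsPrime.comap _) (fun j => (hstep j).2.1)
    let Φ : MvPolynomial (Fin (d + 1)) k →ₐ[k] MvPolynomial (Fin (d + 1)) k :=
      aeval (Fin.snoc (fun i => rename Fin.castSucc (φ' (X i))) (X (Fin.last d)) :
        Fin (d + 1) → MvPolynomial (Fin (d + 1)) k)
    have hΦr : Φ.comp (rename Fin.castSucc) = (rename Fin.castSucc).comp φ' :=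
      MvPolynomial.algHom_ext fun i => by simp [Φ]
    have hΦ : Φ.toRingHom.IsIntegral := by
      refine isIntegral_of_X Φ fun i => ?_
      cases i using Fin.lastCases with
      | last =>
        have : X (Fin.last d) = Φ.toRingHom (X (Fin.last d)) := by simp [Φ]
        rw [this]; exact Φ.toRingHom.isIntegralElem_map
      | cast i =>
        obtain ⟨p, hp, hpe⟩ := hφ' (X i)
        refine ⟨p.map (rename Fin.castSucc).toRingHom, hp.map _, ?_⟩
        rw [Polynomial.eval₂_map,
          show Φ.toRingHom.comp (rename Fin.castSucc).toRingHom = (rename Fin.castSucc).toRingHom.comp φ'.toRingHom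
            from congrArg AlgHom.toRingHom hΦr,
          show X i.castSucc = (rename Fin.castSucc).toRingHom (X (R := k) i) by simp,
          ← Polynomial.hom_eval₂, hpe, map_zero]
    refine ⟨ψ.comp Φ, hΦ.trans _ _ hψ, fun j => ?_⟩
    by_cases hj : qs j = ⊥
    · rw [hbot j hj, hj]
      exact (RingHom.injective_iff_ker_eq_bot _).1 (injective_of_isIntegral (ψ.comp Φ) (hΦ.trans _ _ hψ))
    · haveI := hp j
      let q := qs j
      have hfq := hfq j hj
      obtain ⟨hψr, -, hrd⟩ := hstep ⟨j, hj⟩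
      let q' := qs' ⟨j, hj⟩
      have hφq := hφq ⟨j, hj⟩
      refine le_antisymm (fun g hg => ?_) ?_
      · have hg' : ψ (Φ g) ∈ q := hg
        have h1 : red (Φ g) = φ' (red g) := by
          have : red.comp Φ = φ'.comp red := by
            refine MvPolynomial.algHom_ext fun i => ?_
            cases i using Fin.lastCases with
            | last => simp [red, Φ]
            | cast i =>
              have hid : red.comp (rename Fin.castSucc) = AlgHom.id k _ :=
                MvPolynomial.algHom_ext fun j => by simp [red]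
              simpa [red, Φ] using AlgHom.congr_fun hid (φ' (X i))
          exact AlgHom.congr_fun this g
        have h2 : red g ∈ q'.comap φ' := by
          rw [Ideal.mem_comap, ← h1]
          show α (red (Φ g)) ∈ q
          rw [← Ideal.Quotient.eq_zero_iff_mem, ← hψr, Ideal.Quotient.eq_zero_iff_mem]
          exact hg'
        rw [hφq] at h2
        rw [show g = (g - rename Fin.castSucc (red g)) + rename Fin.castSucc (red g) by ring]
        refine add_mem (Ideal.span_mono ?_ (hred g)) ?_
        · rintro _ rfl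
          exact ⟨⟨Fin.last d, by simpa using hrd⟩, rfl⟩
        · have h3 := Ideal.mem_map_of_mem (rename (R := k) Fin.castSucc).toRingHom h2
          rw [Ideal.map_span] at h3
          refine Ideal.span_mono ?_ h3
          rintro _ ⟨_, ⟨⟨i, hi⟩, rfl⟩, rfl⟩
          exact ⟨⟨i.castSucc, hi⟩, by simp⟩
      · rw [Ideal.span_le]
        rintro _ ⟨⟨i, hi⟩, rfl⟩
        show ψ (Φ (X i)) ∈ q
        cases i using Fin.lastCases with
        | last => simpa [Φ, ψ] using hfq
        | cast i =>
          have h1 : X i ∈ q'.comap φ' := hφq.symm ▸ Ideal.subset_span ⟨⟨i, hi⟩, rfl⟩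
          have h2 : ψ.comp (rename Fin.castSucc) = α := MvPolynomial.algHom_ext fun j => by simp [ψ, α]
          have h3 : ψ (Φ (X i.castSucc)) = α (φ' (X i)) := by
            rw [show Φ (X i.castSucc) = rename Fin.castSucc (φ' (X i)) by simp [Φ]]
            exact AlgHom.congr_fun h2 _
          rw [h3]; exact h1

/-- The ideal of a coordinate subspace. -/
noncomputable def coordIdeal (k : Type u) [Field k] (d h : ℕ) : Ideal (MvPolynomial (Fin d) k) :=
  Ideal.span (X '' {l : Fin d | (l : ℕ) < h})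

/-- The retraction onto a coordinate subspace. -/
noncomputable def coordRed (k : Type u) [Field k] (d h : ℕ) :
    MvPolynomial (Fin d) k →ₐ[k] MvPolynomial {l : Fin d // h ≤ (l : ℕ)} k :=
  aeval fun l => if hl : h ≤ (l : ℕ) then X ⟨l, hl⟩ else 0

theorem coordRed_rename (h : ℕ) (g : MvPolynomial {l : Fin d // h ≤ (l : ℕ)} k) :
    coordRed k d h (rename Subtype.val g) = g := by
  have : (coordRed k d h).comp (rename Subtype.val) = AlgHom.id k _ :=
    MvPolynomial.algHom_ext fun i => by simp [coordRed, i.2]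
  exact AlgHom.congr_fun this g

theorem sub_rename_mem (h : ℕ) (g : MvPolynomial (Fin d) k) :
    g - rename Subtype.val (coordRed k d h g) ∈ coordIdeal k d h := by
  rw [← Ideal.Quotient.eq]
  have : (Ideal.Quotient.mkₐ k (coordIdeal k d h)).comp (AlgHom.id k _) =
      (Ideal.Quotient.mkₐ k _).comp ((rename Subtype.val).comp (coordRed k d h)) := by
    refine MvPolynomial.algHom_ext fun i => ?_
    by_cases hi : h ≤ (i : ℕ)
    · simp [coordRed, hi]
    · simp only [AlgHom.comp_apply, AlgHom.id_apply, coordRed, aeval_X, dif_neg hi, map_zero]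
      exact Ideal.Quotient.eq_zero_iff_mem.2 (Ideal.subset_span ⟨i, not_le.1 hi, rfl⟩)
  exact AlgHom.congr_fun this g

theorem coordIdeal_eq_ker (h : ℕ) : coordIdeal k d h = RingHom.ker (coordRed k d h) := by
  refine le_antisymm (Ideal.span_le.2 ?_) fun g hg => ?_
  · rintro _ ⟨l, hl, rfl⟩
    simp [coordRed, not_le.2 (show (l : ℕ) < h from hl)]
  · have := sub_rename_mem h g
    rwa [RingHom.mem_ker.1 hg, map_zero, sub_zero] at this

theorem isPrime_coordIdeal (h : ℕ) : (coordIdeal k d h).IsPrime :=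
  coordIdeal_eq_ker (k := k) h ▸ RingHom.ker_isPrime _

theorem coordIdeal_mono {h h' : ℕ} (hh : h ≤ h') : coordIdeal k d h ≤ coordIdeal k d h' :=
  Ideal.span_mono (Set.image_mono fun _ hl => lt_of_lt_of_le hl hh)

theorem coordIdeal_ne {j : ℕ} (hj : j < d) : coordIdeal k d j ≠ coordIdeal k d (j + 1) := by
  intro he
  have h1 : X (R := k) (⟨j, hj⟩ : Fin d) ∈ coordIdeal k d j :=
    he ▸ Ideal.subset_span ⟨⟨j, hj⟩, Nat.lt_succ_self j, rfl⟩
  rw [coordIdeal_eq_ker, RingHom.mem_ker] at h1
  simp [coordRed] at h1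

theorem coordIdeal_zero : coordIdeal k d 0 = ⊥ := by
  simp [coordIdeal]

/-- Going down inside a prime lying over a coordinate subspace. -/
theorem exists_between {A : Type u} [CommRing A] [Algebra k A] (φ : MvPolynomial (Fin d) k →ₐ[k] A)
    (hφ : φ.toRingHom.IsIntegral) {h j : ℕ} (hhj : h ≤ j) (q Q : Ideal A) [q.IsPrime] [Q.IsPrime]
    (hqQ : q ≤ Q) (hq : q.comap φ = coordIdeal k d h) (hQ : Q.comap φ = coordIdeal k d (j + 1)) :
    ∃ Q' : Ideal A, Q'.IsPrime ∧ q ≤ Q' ∧ Q' ≤ Q ∧ Q'.comap φ = coordIdeal k d j := by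
  let ι : MvPolynomial {l : Fin d // h ≤ (l : ℕ)} k →ₐ[k] MvPolynomial (Fin d) k := rename Subtype.val
  let ψ : MvPolynomial {l : Fin d // h ≤ (l : ℕ)} k →ₐ[k] (A ⧸ q) := ((Ideal.Quotient.mkₐ k q).comp φ).comp ι
  have hψinj : Function.Injective ψ := by
    rw [injective_iff_map_eq_zero]
    intro g hg
    have h0 : Ideal.Quotient.mk q (φ (ι g)) = 0 := hg
    have h1 : ι g ∈ q.comap φ := Ideal.mem_comap.2 (Ideal.Quotient.eq_zero_iff_mem.1 h0)
    rw [hq, coordIdeal_eq_ker, RingHom.mem_ker, coordRed_rename] at h1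
    exact h1
  have hfac : (Ideal.Quotient.mk q).comp φ.toRingHom = ψ.toRingHom.comp (coordRed k d h).toRingHom := by
    refine RingHom.ext fun g => ?_
    show Ideal.Quotient.mk q (φ g) = Ideal.Quotient.mk q (φ (ι (coordRed k d h g)))
    rw [Ideal.Quotient.eq, ← map_sub]
    exact (hq.symm ▸ sub_rename_mem h g : g - ι (coordRed k d h g) ∈ q.comap φ)
  have hψint : ψ.toRingHom.IsIntegral := by
    refine RingHom.IsIntegral.tower_top (coordRed k d h).toRingHom _ ?_
    rw [← hfac]
    exact hφ.trans _ _ (RingHom.isIntegral_of_surjective _ Ideal.Quotient.mk_surjective)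
  letI := ψ.toRingHom.toAlgebra
  haveI : FaithfulSMul (MvPolynomial {l : Fin d // h ≤ (l : ℕ)} k) (A ⧸ q) :=
    (faithfulSMul_iff_algebraMap_injective _ _).2 hψinj
  haveI : Algebra.IsIntegral (MvPolynomial {l : Fin d // h ≤ (l : ℕ)} k) (A ⧸ q) := ⟨hψint⟩
  haveI := isPrime_coordIdeal (k := k) (d := d) j
  haveI : (Q.map (Ideal.Quotient.mk q)).IsPrime := Ideal.isPrime_map_quotientMk_of_isPrime hqQ
  have hback : (Q.map (Ideal.Quotient.mk q)).comap (Ideal.Quotient.mk q) = Q := by
    rw [Ideal.comap_map_of_surjective _ Ideal.Quotient.mk_surjective, ← RingHom.ker_eq_comap_bot, Ideal.mk_ker, sup_eq_left.2 hqQ]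
  let p₁ := (coordIdeal k d j).comap ι
  let p₂ := (coordIdeal k d (j + 1)).comap ι
  haveI := isPrime_coordIdeal (k := k) (d := d) (j + 1)
  haveI : p₁.IsPrime := Ideal.IsPrime.comap _
  haveI : p₂.IsPrime := Ideal.IsPrime.comap _
  haveI : (Q.map (Ideal.Quotient.mk q)).LiesOver p₂ := ⟨by
    show (coordIdeal k d (j + 1)).comap ι = (Q.map (Ideal.Quotient.mk q)).comap ψ.toRingHom
    rw [← hQ]
    conv_lhs => rw [← hback]
    rfl⟩
  obtain ⟨P, hPQ, hP, hPp⟩ := Ideal.exists_ideal_le_liesOver_of_le (p := p₁) (q := p₂) (Q.map (Ideal.Quotient.mk q))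
    (Ideal.comap_mono (coordIdeal_mono (Nat.le_succ j)))
  haveI := hP
  refine ⟨P.comap (Ideal.Quotient.mk q), Ideal.IsPrime.comap _, ?_, hback ▸ Ideal.comap_mono hPQ, ?_⟩
  · intro x hx
    show Ideal.Quotient.mk q x ∈ P
    rw [Ideal.Quotient.eq_zero_iff_mem.2 hx]
    exact zero_mem _
  · ext g
    show Ideal.Quotient.mk q (φ g) ∈ P ↔ g ∈ coordIdeal k d j
    rw [show Ideal.Quotient.mk q (φ g) = ψ (coordRed k d h g) from RingHom.congr_fun hfac g,
      show ψ (coordRed k d h g) ∈ P ↔ coordRed k d h g ∈ p₁ by rw [hPp.over]; rfl]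
    show ι (coordRed k d h g) ∈ coordIdeal k d j ↔ _
    have h1 := coordIdeal_mono (k := k) (d := d) hhj (sub_rename_mem h g)
    exact ⟨fun h2 => by simpa [ι] using add_mem h1 h2, fun h2 => by simpa [ι] using sub_mem h2 h1⟩

end Groth.Agent.ChainNormLib
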